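import Groth.Prelude.Def_MeroDiv
import Groth.Agent.MeroMin.Regular
import Groth.Agent.QCoh.Qcqs
import Groth.Agent.KZ.QuasiProj
import Groth.Agent.QCoh.LocFree
import Mathlib

/-!
# The ideal of denominators of a regular meromorphic section
-/

set_option autoImplicit false
set_option linter.style.haveILetI false
set_option backward.isDefEq.respectTransparency false
set_option backward.isDefEq.respectTransparency.types false

universe u

open CategoryTheory AlgebraicGeometry TopologicalSpace Opposite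

namespace Groth.Agent.MeroDenom

open Groth.Agent

variable {X : Scheme.{u}} {L : X.Modules}

/-- The canonical image of a germ. -/
noncomputable abbrev κ (x : X) (v : L.presheaf.stalk x) : Mero.MStalk L x := LocalizedModule.mk v 1

theorem κ_injective (hL : PicF.IsInvertible L) (x : X) : Function.Injective (κ (L := L) x) := by
  intro v w h
  obtain ⟨U, hxU, e, he⟩ := InvX.exists_frame hL x
  obtain ⟨a, ha⟩ := (he.germ_bijective hxU).2 v
  obtain ⟨b, hb⟩ := (he.germ_bijective hxU).2 w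
  obtain ⟨u, hu⟩ := LocalizedModule.mk_eq.mp h
  simp only [Submonoid.smul_def, Submonoid.coe_one, one_smul] at hu ha hb
  rw [← ha, ← hb, smul_smul, smul_smul] at hu
  have h1 : (u : X.presheaf.stalk x) * a = (u : X.presheaf.stalk x) * b := (he.germ_bijective hxU).1 hu
  have h2 : a = b := sub_eq_zero.1 (mem_nonZeroDivisors_iff_right.1
    (Mero.regStalk_le_nonZeroDivisors x u.2) _ (by rw [mul_comm, mul_sub, h1, sub_self]))
  rw [← ha, ← hb, h2]

theorem mem_denom_iff (s : Γ(Mero.merMod L, ⊤)) {U : X.Opens} (f : Γ(X, U)) :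
    f ∈ Mero.denomIdeal L s U ↔ ∃ m : Γ(L, U), ∀ y : U,
      X.presheaf.germ U y.1 y.2 f • s.1 ⟨y.1, trivial⟩ = κ y.1 (L.presheaf.germ U y.1 y.2 m) := Iff.rfl

theorem smul_κ (x : X) (a : X.presheaf.stalk x) (v : L.presheaf.stalk x) : a • κ x v = κ x (a • v) :=
  LocalizedModule.smul'_mk _ _ _

theorem smul_frac (x : X) (b : Mero.regStalk X x) (v : L.presheaf.stalk x) :
    (b : X.presheaf.stalk x) • (LocalizedModule.mk v b : Mero.MStalk L x) = κ x v :=
  (LocalizedModule.smul'_mk _ _ _).trans (LocalizedModule.mk_eq.mpr ⟨1, by simp [Submonoid.smul_def]⟩)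

variable (hL : PicF.IsInvertible L) (s : Γ(Mero.merMod L, ⊤))

theorem mem_denom_res {U V : X.Opens} (h : V ≤ U) {f : Γ(X, U)} (hf : f ∈ Mero.denomIdeal L s U) :
    X.presheaf.map (homOfLE h).op f ∈ Mero.denomIdeal L s V := by
  obtain ⟨m, hm⟩ := (mem_denom_iff s f).1 hf
  refine (mem_denom_iff s _).2 ⟨L.presheaf.map (homOfLE h).op m, fun y => ?_⟩
  rw [TopCat.Presheaf.germ_res_apply, TopCat.Presheaf.germ_res_apply]
  exact hm ⟨y.1, h y.2⟩

include hL

theorem exists_pow_mul_mem (U : X.affineOpens) (g f : Γ(X, U.1))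
    (hf : X.presheaf.map (homOfLE (X.basicOpen_le g)).op f ∈ Mero.denomIdeal L s (X.basicOpen g)) :
    ∃ N : ℕ, g ^ N * f ∈ Mero.denomIdeal L s U.1 := by
  classical
  have hq : Coh.IsQCoh L := QCoh.isQCoh_of_isFinLocFree (KZ.QuasiProj.flf_of_invertible hL)
  obtain ⟨mg, hmg⟩ := (mem_denom_iff s _).1 hf
  obtain ⟨k, m₀, hm₀⟩ := QCoh.exists_pow_smul_eq_map hq U.2 g mg
  -- the local annihilation
  have hloc : ∀ y : U.1, ∃ (h : Γ(X, U.1)) (N : ℕ), y.1 ∈ X.basicOpen h ∧
      ∀ z (hz : z ∈ U.1), z ∈ X.basicOpen h →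
        X.presheaf.germ U.1 z hz (g ^ N * (g ^ k * f)) • s.1 ⟨z, trivial⟩ =
          κ z (X.presheaf.germ U.1 z hz (g ^ N) • L.presheaf.germ U.1 z hz m₀) := by
    intro y
    obtain ⟨W, hyW, i, m₁, b₁, hw⟩ := s.2 ⟨y.1, trivial⟩
    obtain ⟨h, hhW, hyh⟩ := U.2.exists_basicOpen_le ⟨y.1, hyW⟩ y.2
    let r := X.presheaf.map (homOfLE (X.basicOpen_le h)).op
    let rL := L.presheaf.map (homOfLE (X.basicOpen_le h)).op
    let bh := X.presheaf.map (homOfLE hhW).op b₁.1
    let q : Γ(L, X.basicOpen h) := r (g ^ k * f) • L.presheaf.map (homOfLE hhW).op m₁ - bh • rL m₀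
    have hval : ∀ z (hzh : z ∈ X.basicOpen h),
        X.presheaf.germ W z (hhW hzh) b₁.1 • s.1 ⟨z, trivial⟩ = κ z (L.presheaf.germ W z (hhW hzh) m₁) := by
      intro z hzh
      have hs : s.1 ⟨z, trivial⟩ = LocalizedModule.mk (L.presheaf.germ W z (hhW hzh) m₁)
          (Mero.regGerm ⟨z, hhW hzh⟩ b₁) := hw ⟨z, hhW hzh⟩
      rw [hs]
      exact smul_frac z (Mero.regGerm ⟨z, hhW hzh⟩ b₁) _
    have hqv : ∀ z (hzh : z ∈ X.basicOpen h), L.presheaf.germ (X.basicOpen h) z hzh q =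
        X.presheaf.germ U.1 z (X.basicOpen_le h hzh) (g ^ k * f) • L.presheaf.germ W z (hhW hzh) m₁ -
          X.presheaf.germ W z (hhW hzh) b₁.1 • L.presheaf.germ U.1 z (X.basicOpen_le h hzh) m₀ := by
      intro z hzh
      simp only [q, r, rL, bh, map_sub, Mero.germ_smul, TopCat.Presheaf.germ_res_apply]
    have hres : L.presheaf.map (homOfLE (X.basicOpen_le (r g))).op q = 0 := by
      refine TopCat.Presheaf.section_ext ⟨L.presheaf, L.isSheaf⟩ _ _ _ fun z hz => ?_
      have hzh : z ∈ X.basicOpen h := X.basicOpen_le (r g) hz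
      have hzg : z ∈ X.basicOpen g := by
        have := (X.basicOpen_res g (homOfLE (X.basicOpen_le h)).op).le hz
        exact this.2
      have hzU : z ∈ U.1 := X.basicOpen_le h hzh
      change L.presheaf.germ _ z hz (L.presheaf.map (homOfLE (X.basicOpen_le (r g))).op q) = _
      rw [TopCat.Presheaf.germ_res_apply, hqv z hzh]
      refine Eq.trans (sub_eq_zero.2 (κ_injective hL z ?_)) (map_zero _).symm
      have h1 := congrArg (L.presheaf.germ (X.basicOpen g) z hzg) hm₀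
      rw [TopCat.Presheaf.germ_res_apply, Mero.germ_smul, map_pow, TopCat.Presheaf.germ_res_apply] at h1
      have h2 := hmg ⟨z, hzg⟩
      rw [TopCat.Presheaf.germ_res_apply] at h2
      rw [← smul_κ, ← smul_κ, h1, ← smul_κ, ← h2, ← hval z hzh, map_mul, map_pow]
      simp only [smul_smul]
      congr 1
      ring
    obtain ⟨N, hN⟩ := QCoh.exists_pow_smul_eq_zero hq (U.2.basicOpen h) (r g) q hres
    refine ⟨h, N, hyh, fun z hz hzh => ?_⟩
    have h3 := congrArg (L.presheaf.germ (X.basicOpen h) z hzh) hN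
    rw [Mero.germ_smul, map_zero, map_pow, hqv z hzh, smul_sub, sub_eq_zero,
      TopCat.Presheaf.germ_res_apply] at h3
    have hs : s.1 ⟨z, trivial⟩ = LocalizedModule.mk (L.presheaf.germ W z (hhW hzh) m₁)
        (Mero.regGerm ⟨z, hhW hzh⟩ b₁) := hw ⟨z, hhW hzh⟩
    rw [hs]
    refine (LocalizedModule.smul'_mk _ _ _).trans (LocalizedModule.mk_eq.mpr ⟨1, ?_⟩)
    simp only [one_smul, Submonoid.smul_def]
    rw [map_mul, mul_smul, map_pow, h3, smul_comm]
  choose h N hyh hN using hloc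
  obtain ⟨t, ht⟩ := U.2.isCompact.elim_finite_subcover (fun y : U.1 => (X.basicOpen (h y) : Set X))
    (fun y => (X.basicOpen (h y)).2) (fun z hz => Set.mem_iUnion.2 ⟨⟨z, hz⟩, hyh ⟨z, hz⟩⟩)
  refine ⟨t.sup N + k, (mem_denom_iff s _).2 ⟨g ^ t.sup N • m₀, fun z => ?_⟩⟩
  obtain ⟨y, hyt, hy⟩ := Set.mem_iUnion₂.1 (ht z.2)
  obtain ⟨j, hj⟩ := Nat.exists_eq_add_of_le' (Finset.le_sup (f := N) hyt)
  rw [hj, Mero.germ_smul]
  have h4 := congrArg (fun v => X.presheaf.germ U.1 z.1 z.2 (g ^ j) • v) (hN y z.1 z.2 hy)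
  simp only [smul_κ, smul_smul, ← map_mul] at h4
  rw [show g ^ (j + N y + k) * f = g ^ j * (g ^ N y * (g ^ k * f)) by ring, pow_add]
  exact h4

theorem exists_ideal (_hs : Mero.IsRegularMero L s) :
    ∃ I : X.IdealSheafData, (∀ U : X.affineOpens, I.ideal U = Mero.denomIdeal L s U.1) ∧
      interior (I.support : Set X) = ∅ := by
  let I : X.IdealSheafData :=
    { ideal := fun U => Mero.denomIdeal L s U.1
      map_ideal_basicOpen := fun U g => by
        refine le_antisymm (Ideal.map_le_iff_le_comap.2 fun f hf => mem_denom_res s _ hf) fun f' hf' => ?_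
        haveI := U.2.isLocalization_basicOpen g
        obtain ⟨⟨f, _, n, rfl⟩, hfn⟩ := IsLocalization.surj (Submonoid.powers g) f'
        have h1 : X.presheaf.map (homOfLE (X.basicOpen_le g)).op f ∈ Mero.denomIdeal L s (X.basicOpen g) :=
          hfn ▸ Ideal.mul_mem_right _ _ hf'
        obtain ⟨N, hN⟩ := exists_pow_mul_mem hL s U g f h1
        have hu : IsUnit (algebraMap Γ(X, U.1) Γ(X, X.basicOpen g) (g ^ N * g ^ n)) :=
          IsLocalization.map_units _ (⟨g ^ N * g ^ n, N + n, pow_add g N n⟩ : Submonoid.powers g)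
        refine (Ideal.unit_mul_mem_iff_mem _ hu).1 ?_
        have h2 : algebraMap Γ(X, U.1) Γ(X, X.basicOpen g) (g ^ N * g ^ n) * f' =
            algebraMap Γ(X, U.1) Γ(X, X.basicOpen g) (g ^ N * f) := by
          rw [map_mul, map_mul, mul_assoc, mul_comm _ f']
          exact congrArg (_ * ·) hfn
        rw [h2]
        exact Ideal.mem_map_of_mem _ hN }
  refine ⟨I, fun U => rfl, Set.eq_empty_iff_forall_notMem.2 fun x hx => ?_⟩
  obtain ⟨W, hxW, i, m, b, hw⟩ := s.2 ⟨x, trivial⟩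
  obtain ⟨V, hV, hxV, hVle⟩ := exists_isAffineOpen_mem_and_subset (x := x)
    (U := W ⊓ ⟨interior (I.support : Set X), isOpen_interior⟩) ⟨hxW, hx⟩
  let iV : V ⟶ W := homOfLE fun z hz => (hVle hz).1
  let bV := X.presheaf.map iV.op b.1
  have hmem : bV ∈ Mero.denomIdeal L s V := (mem_denom_iff s _).2 ⟨L.presheaf.map iV.op m, fun y => by
    rw [TopCat.Presheaf.germ_res_apply, TopCat.Presheaf.germ_res_apply,
      show s.1 ⟨y.1, trivial⟩ = LocalizedModule.mk (L.presheaf.germ W y.1 (iV.le y.2) m)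
        (Mero.regGerm ⟨y.1, iV.le y.2⟩ b) from hw ⟨y.1, iV.le y.2⟩]
    exact smul_frac y.1 (Mero.regGerm ⟨y.1, iV.le y.2⟩ b) _⟩
  have hempty : X.basicOpen bV = ⊥ := by
    refine eq_bot_iff.2 fun z hz => ?_
    have hzV : z ∈ V := X.basicOpen_le bV hz
    have hzs := (Scheme.IdealSheafData.mem_support_iff_of_mem (I := I) (U := ⟨V, hV⟩) hzV).1
      (interior_subset (hVle hzV).2)
    exact absurd hz ((Scheme.mem_zeroLocus_iff _ _ _).1 hzs bV hmem)
  have hnil : IsNilpotent bV := (X.isNilpotent_iff_basicOpen_eq_bot_of_isCompact hV.isCompact bV).2 hempty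
  obtain ⟨n, hn⟩ := hnil.map (X.presheaf.germ V x hxV).hom
  have hreg := pow_mem ((Mero.regSub_res iV b.2) ⟨x, hxV⟩) n
  rw [hn] at hreg
  exact zero_notMem_nonZeroDivisors hreg

end Groth.Agent.MeroDenom
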